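/-
`H^d(X, F)` as a Hom group between direct images in `D(Spec A)`, linearly and naturally.
-/
import Groth.Agent.ExtHom.Compare
import Groth.Agent.KFlat.DerivedAdj
import Groth.Agent.KFlat.ProjFormula
import Groth.Agent.KFlat.TildeD
import Groth.Prelude.Def_KLin
import Mathlib.Algebra.Homology.DerivedCategory.Linear
import Mathlib.Algebra.Homology.DerivedCategory.Ext.Linear

set_option autoImplicit false

universe u

open CategoryTheory CategoryTheory.Limits AlgebraicGeometry DerivedCategory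

attribute [local instance] HasDerivedCategory.standard

noncomputable section

namespace Groth.Agent.TopDual

variable (A : Type u) [CommRing A]

theorem linear_tilde :
    (tilde.functor (CommRingCat.of A)).Linear A := by
  refine (Functor.linear_iff A _).2 fun M a => ?_
  apply ((tilde.adjunction (R := CommRingCat.of A)).homEquiv _ _).injective
  rw [Adjunction.homEquiv_unit, Adjunction.homEquiv_unit]
  refine ModuleCat.hom_ext (LinearMap.ext fun m => ?_)
  have h : ((tilde.functor (CommRingCat.of A)).map (a • 𝟙 M)).app ⊤ ((tilde.toOpen M ⊤).hom m) =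
      (tilde.toOpen M ⊤).hom (a • m) :=
    congrArg (fun t => t.hom m) (tilde.toOpen_map_app (a • 𝟙 M) ⊤)
  refine h.trans ?_
  rw [map_smul]
  have ht : Coh.toGlobal (Spec (CommRingCat.of A) ↘ Spec (CommRingCat.of A)) a =
      (Scheme.ΓSpecIso (CommRingCat.of A)).inv.hom a := by
    rw [show Spec (CommRingCat.of A) ↘ Spec (CommRingCat.of A) = 𝟙 _ from by simp [specOverSpec_over]]
    simp [Coh.toGlobal]
    rfl
  have h' := KLin.smul_app_apply (X := Spec (CommRingCat.of A)) a
    (𝟙 ((tilde.functor (CommRingCat.of A)).obj M)) ⊤ ((tilde.toOpen M ⊤).hom m)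
  rw [ht] at h'
  exact (Scheme.Modules.smul_Spec_def a ((tilde.toOpen M ⊤).hom m)).trans h'.symm

variable {A} {X Y : Scheme.{u}} [X.Over (Spec (CommRingCat.of A))] [Y.Over (Spec (CommRingCat.of A))]
  (f : X ⟶ Y) [f.IsOver (Spec (CommRingCat.of A))]

theorem linear_Rpush [DCoh.HasRpush f] [(DCoh.Rpush f).Additive] : (DCoh.Rpush f).Linear A := by
  refine (Functor.linear_iff A _).2 fun G a => ?_
  obtain ⟨K, ⟨e⟩⟩ : ∃ K, Nonempty (Q.obj K ≅ G) := ⟨_, ⟨Q.objObjPreimageIso G⟩⟩
  let J := (KFlat.RPush.injRes X).obj K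
  let j : Q.obj J ≅ G := (asIso (Q.map ((KFlat.RPush.injι X).app K))).symm ≪≫ e
  have := KFlat.RPush.isIso_toRpush f J
  let P := (Scheme.Modules.pushforward f).mapHomologicalComplex (ComplexShape.up ℤ)
  have h1 : (DCoh.Rpush f).map (Q.map (a • 𝟙 J)) = a • 𝟙 ((DCoh.Rpush f).obj (Q.obj J)) := by
    rw [← cancel_epi ((KFlat.RPush.toRpush f).app J)]
    refine ((KFlat.RPush.toRpush f).naturality (a • 𝟙 J)).symm.trans ?_
    change Q.map (P.map (a • 𝟙 J)) ≫ (KFlat.RPush.toRpush f).app J = _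
    rw [Functor.map_smul, CategoryTheory.Functor.map_id, Functor.map_smul, CategoryTheory.Functor.map_id,
      Linear.smul_comp, Linear.comp_smul]
    exact congrArg (a • ·) ((Category.id_comp _).trans (Category.comp_id _).symm)
  have h2 : a • 𝟙 G = j.inv ≫ Q.map (a • 𝟙 J) ≫ j.hom := by
    rw [Functor.map_smul, CategoryTheory.Functor.map_id]
    simp [Coh.toGlobal]
  rw [h2, Functor.map_comp, Functor.map_comp, h1]
  simp only [Linear.smul_comp, Linear.comp_smul, Category.id_comp, ← Functor.map_comp, j.inv_hom_id,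
    CategoryTheory.Functor.map_id]

variable (X) in
/-- `H^d(X, F) = Hom(O_X, F[d])`, with naturality -/
theorem exists_hh_equiv (d : ℕ) :
    ∃ e : ∀ F : X.Modules, Coh.HH X F d ≃ₗ[A]
        (DCoh.inD X (Coh.structureModule X) ⟶ (DCoh.inD X F)⟦(d : ℤ)⟧),
      ∀ (F G : X.Modules) (φ : F ⟶ G) (x : Coh.HH X F d),
        e G (Sheaf.H.map ((SheafOfModules.toSheaf X.ringCatSheaf).map φ) d x) =
          e F x ≫ ((singleFunctor X.Modules 0).map φ)⟦(d : ℤ)⟧' := by
  have : EnoughInjectives X.Modules := ModShf.schemeModulesEnoughInjectives X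
  have : HasExt.{u} X.Modules := hasExt_of_enoughInjectives.{u} _
  let S : X.Modules ⥤ Sheaf (Opens.grothendieckTopology X) AddCommGrpCat.{u} :=
    SheafOfModules.toSheaf.{u} X.ringCatSheaf
  have : S.Additive := inferInstanceAs (SheafOfModules.toSheaf.{u} X.ringCatSheaf).Additive
  have : PreservesFiniteLimits S :=
    inferInstanceAs (PreservesFiniteLimits (SheafOfModules.toSheaf.{u} X.ringCatSheaf))
  have : PreservesFiniteColimits S := ⟨fun J _ _ => inferInstance⟩
  obtain ⟨θ, hθ⟩ := ExtHom.exists_constUnit (Opens.grothendieckTopology X) X.ringCatSheaf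
  have hb := fun F : X.Modules => ExtHom.extMap_bijective S θ hθ
    (fun I hI q => ExtHom.subsingleton_HH_injective I hI q) d F
  let Φ : ∀ F : X.Modules, Abelian.Ext (Coh.structureModule X) F d →ₗ[A] Coh.HH X F d := fun F =>
    { toFun := ExtHom.extMap S θ F d
      map_add' := map_add _
      map_smul' := fun a x => by
        rw [Abelian.Ext.smul_eq_comp_mk₀, ExtHom.extMap_comp_mk₀, KLin.smul_id]
        rfl }
  let e : ∀ F : X.Modules, Coh.HH X F d ≃ₗ[A]
      (DCoh.inD X (Coh.structureModule X) ⟶ (DCoh.inD X F)⟦(d : ℤ)⟧) := fun F =>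
    (LinearEquiv.ofBijective (Φ F) (hb F)).symm ≪≫ₗ Abelian.Ext.homLinearEquiv
  refine ⟨e, fun F G φ x => ?_⟩
  obtain ⟨z, rfl⟩ : ∃ z, Φ F z = x := (hb F).2 x
  have h : Sheaf.H.map ((SheafOfModules.toSheaf X.ringCatSheaf).map φ) d (Φ F z) =
      Φ G (z.comp (Abelian.Ext.mk₀ φ) (add_zero d)) := (ExtHom.extMap_comp_mk₀ S θ z φ).symm
  have he : ∀ (F : X.Modules) (z : Abelian.Ext (Coh.structureModule X) F d), e F (Φ F z) = z.hom :=
    fun F z => congrArg (fun t => Abelian.Ext.homLinearEquiv (R := A) t)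
      ((LinearEquiv.ofBijective (Φ F) (hb F)).symm_apply_apply z)
  rw [h, he, he, Abelian.Ext.comp_hom, Abelian.Ext.mk₀_hom, ShiftedHom.comp_mk₀]

end Groth.Agent.TopDual
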