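/-
`H^p(X, F) = Hom(O_S[-i], Rf_*(F[-k]))` for `i = p + k`, linearly and naturally.
-/
import Groth.Agent.TopDual.Coh
import Groth.Agent.KFlat.RPushTriangle

set_option autoImplicit false

universe u

open CategoryTheory CategoryTheory.Limits AlgebraicGeometry DerivedCategory

attribute [local instance] HasDerivedCategory.standard

noncomputable section

namespace Groth.Agent.TopDual

variable {X Y : Scheme.{u}}

theorem nonempty_Lpull_single_unit (f : X ⟶ Y) [DCoh.HasLpull f] (i : ℤ) :
    Nonempty ((DCoh.Lpull f).obj ((singleFunctor Y.Modules i).obj (Coh.structureModule Y)) ≅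
      (singleFunctor X.Modules i).obj (Coh.structureModule X)) := by
  have hT : KFlat.TensorMono (O := Y.sheaf) (Coh.structureModule Y) :=
    @Functor.PreservesMonomorphisms.of_iso _ _ _ _ _ _ ⟨fun g hg => hg⟩ (KFlat.ProjFormula.unitRight (Y := Y)).symm
  have := KFlat.Pull.isIso_toPull f (KFlat.isKFlat_single (O := Y.sheaf) hT i)
  let P := (Scheme.Modules.pullback f).mapHomologicalComplex (ComplexShape.up ℤ)
  exact ⟨(DCoh.Lpull f).mapIso ((singleFunctorIsoCompQ Y.Modules i).app _) ≪≫
    @asIso _ _ _ _ ((KFlat.Pull.toPull f).app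
      ((HomologicalComplex.single Y.Modules (ComplexShape.up ℤ) i).obj (Coh.structureModule Y))) this ≪≫
    Q.mapIso ((HomologicalComplex.singleMapHomologicalComplex (Scheme.Modules.pullback f)
      (ComplexShape.up ℤ) i).app _) ≪≫
    ((singleFunctorIsoCompQ X.Modules i).app _).symm ≪≫
    (singleFunctor X.Modules i).mapIso (QCoh.pullbackUnitIso f)⟩

variable {A : Type u} [CommRing A] [X.Over (Spec (CommRingCat.of A))]

instance isOver_structure : (X ↘ Spec (CommRingCat.of A)).IsOver (Spec (CommRingCat.of A)) :=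
  ⟨by simp [specOverSpec_over]⟩

theorem exists_topEquiv [DCoh.HasRpush (X ↘ Spec (CommRingCat.of A))] (p : ℕ) (k i : ℤ) (h : i = p + k) :
    ∃ T : ∀ F : X.Modules, Coh.HH X F p ≃ₗ[A]
        ((singleFunctor (Spec (CommRingCat.of A)).Modules i).obj (Coh.structureModule _) ⟶
          (DCoh.Rpush (X ↘ Spec (CommRingCat.of A))).obj ((singleFunctor X.Modules k).obj F)),
      ∀ (F G : X.Modules) (φ : F ⟶ G) (x : Coh.HH X F p),
        T G (Sheaf.H.map ((SheafOfModules.toSheaf X.ringCatSheaf).map φ) p x) =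
          T F x ≫ (DCoh.Rpush (X ↘ Spec (CommRingCat.of A))).map ((singleFunctor X.Modules k).map φ) := by
  let f := X ↘ Spec (CommRingCat.of A)
  have := KFlat.Pull.hasLpull f
  have : (DCoh.Rpush f).Linear A := linear_Rpush f
  let adj := KFlat.DerivedAdj.adj f
  obtain ⟨e, he⟩ := exists_hh_equiv (A := A) X p
  let sf := singleFunctors X.Modules
  let σ : (DCoh.inD X (Coh.structureModule X))⟦-i⟧ ≅ (singleFunctor X.Modules i).obj (Coh.structureModule X) :=
    (sf.shiftIso (-i) i 0 (by omega)).app _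
  let ρ : singleFunctor X.Modules 0 ⋙ shiftFunctor (DCoh.D X) (p : ℤ) ⋙ shiftFunctor (DCoh.D X) (-i) ≅
      singleFunctor X.Modules k :=
    (Functor.associator _ _ _).symm ≪≫
      Functor.isoWhiskerRight (sf.shiftIso (p : ℤ) (-p) 0 (by omega)) _ ≪≫
      sf.shiftIso (-i) k (-p) (by omega)
  obtain ⟨ι⟩ := nonempty_Lpull_single_unit f i
  let L : ∀ G : DCoh.D X, ((singleFunctor X.Modules i).obj (Coh.structureModule X) ⟶ G) ≃ₗ[A]
      ((singleFunctor (Spec (CommRingCat.of A)).Modules i).obj (Coh.structureModule _) ⟶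
        (DCoh.Rpush f).obj G) := fun G => LinearEquiv.ofBijective
      { toFun := fun s => adj.unit.app _ ≫ (DCoh.Rpush f).map (ι.hom ≫ s)
        map_add' := fun s t => by rw [Preadditive.comp_add, Functor.map_add, Preadditive.comp_add]
        map_smul' := fun a s => by
          rw [Linear.comp_smul, Functor.map_smul, Linear.comp_smul, RingHom.id_apply] }
      (by
        have : (fun s => adj.unit.app _ ≫ (DCoh.Rpush f).map (ι.hom ≫ s) :
            ((singleFunctor X.Modules i).obj (Coh.structureModule X) ⟶ G) → _) =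
            adj.homEquiv _ G ∘ ι.homFromEquiv.symm := by
          funext s
          simp [Adjunction.homEquiv_unit]
        change Function.Bijective (fun s => adj.unit.app _ ≫ (DCoh.Rpush f).map (ι.hom ≫ s))
        rw [this]
        exact (Equiv.bijective _).comp (Equiv.bijective _))
  let sh : ∀ F : X.Modules, (DCoh.inD X (Coh.structureModule X) ⟶ (DCoh.inD X F)⟦(p : ℤ)⟧) ≃ₗ[A]
      ((singleFunctor X.Modules i).obj (Coh.structureModule X) ⟶ (singleFunctor X.Modules k).obj F) := fun F =>
    LinearEquiv.ofBijective ((shiftFunctor (DCoh.D X) (-i)).mapLinearMap A)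
      ⟨(shiftFunctor (DCoh.D X) (-i)).map_injective, (shiftFunctor (DCoh.D X) (-i)).map_surjective⟩ ≪≫ₗ
      Linear.homCongr A σ (ρ.app F)
  refine ⟨fun F => e F ≪≫ₗ sh F ≪≫ₗ L _, fun F G φ x => ?_⟩
  have hs : sh G (e F x ≫ ((singleFunctor X.Modules 0).map φ)⟦(p : ℤ)⟧') =
      sh F (e F x) ≫ (singleFunctor X.Modules k).map φ := by
    change (σ.inv ≫ (shiftFunctor (DCoh.D X) (-i)).map _) ≫ ρ.hom.app G =
      ((σ.inv ≫ (shiftFunctor (DCoh.D X) (-i)).map (e F x)) ≫ ρ.hom.app F) ≫ _
    rw [Functor.map_comp, Category.assoc, Category.assoc, Category.assoc, Category.assoc]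
    exact congrArg (fun t => σ.inv ≫ (shiftFunctor (DCoh.D X) (-i)).map (e F x) ≫ t) (ρ.hom.naturality φ)
  change L _ (sh G (e G _)) = L _ (sh F (e F x)) ≫ _
  rw [he, hs]
  change adj.unit.app _ ≫ (DCoh.Rpush f).map (ι.hom ≫ _) =
    (adj.unit.app _ ≫ (DCoh.Rpush f).map (ι.hom ≫ _)) ≫ _
  rw [← Category.assoc ι.hom, Functor.map_comp, Category.assoc]

end Groth.Agent.TopDual
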