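/-
Maps from a complex in degrees `≤ m` to one in degrees `≥ m` in `D(A)`.
-/
import Groth.Agent.KFlat.TruncHom
import Groth.Agent.DualCx.Cx
import Mathlib.Algebra.Homology.DerivedCategory.Linear

set_option autoImplicit false

universe v w u

open CategoryTheory CategoryTheory.Limits DerivedCategory

attribute [local instance] HasDerivedCategory.standard

noncomputable section

namespace Groth.Agent.TopDual

section Abelian

variable {C : Type u} [Category.{v} C] [Abelian C]

theorem map_homology_bijective (M N : DerivedCategory C) (m : ℤ) (hM : M.IsLE m) (hN : N.IsGE m) :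
    Function.Bijective (fun g : M ⟶ N => (homologyFunctor C m).map g) := by
  have : TStructure.t.IsGE N m := hN
  have hMZ : TStructure.t.IsLE M m := hM
  let T := (TStructure.t.truncGE m).obj M
  let π : M ⟶ T := (TStructure.t.truncGEπ m).app M
  have : T.IsGE m := inferInstanceAs (TStructure.t.IsGE ((TStructure.t.truncGE m).obj M) m)
  have hπ : ∀ j, m ≤ j → IsIso ((homologyFunctor C j).map π) := fun j hj =>
    KFlat.TruncHom.isIso_H_truncGEπ M m j hj
  have : T.IsLE m := (isLE_iff T m).2 fun i hi => by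
    have := hπ i hi.le
    exact (isZero_of_isLE M m i hi).of_iso (asIso ((homologyFunctor C i).map π)).symm
  have := hπ m le_rfl
  obtain ⟨Y, ⟨e⟩⟩ := exists_iso_singleFunctor_obj_of_isGE_of_isLE T m
  have hb := KFlat.TruncHom.Φ_bijective_of_isGE_self Y m N hN
  constructor
  · intro g g' h
    dsimp only at h
    have key : ∀ g : M ⟶ N, (homologyFunctor C m).map π ≫
        (homologyFunctor C m).map (TStructure.t.descTruncGE g m) = (homologyFunctor C m).map g := fun g => by
      rw [← Functor.map_comp, TStructure.t.π_descTruncGE]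
    rw [← key g, ← key g', cancel_epi] at h
    have h' : e.inv ≫ TStructure.t.descTruncGE g m = e.inv ≫ TStructure.t.descTruncGE g' m := hb.1 (by
      rw [KFlat.TruncHom.Φ_apply, KFlat.TruncHom.Φ_apply, Functor.map_comp, Functor.map_comp, h])
    rw [cancel_epi] at h'
    rw [← TStructure.t.π_descTruncGE g m, ← TStructure.t.π_descTruncGE g' m, h']
  · intro c
    obtain ⟨f, hf⟩ := hb.2 ((KFlat.TruncHom.ιH Y m).hom ≫ (homologyFunctor C m).map e.inv ≫
      inv ((homologyFunctor C m).map π) ≫ c)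
    rw [KFlat.TruncHom.Φ_apply, cancel_epi] at hf
    refine ⟨π ≫ e.hom ≫ f, ?_⟩
    dsimp only
    rw [Functor.map_comp, Functor.map_comp, hf, ← (homologyFunctor C m).map_comp_assoc e.hom e.inv, e.hom_inv_id,
      CategoryTheory.Functor.map_id, Category.id_comp, IsIso.hom_inv_id_assoc]

end Abelian

section Module

variable (A : Type u) [CommRing A]

/-- `A` in degree `m` -/
abbrev unitAt (m : ℤ) : Dual.D A := (singleFunctor (ModuleCat.{u} A) m).obj (ModuleCat.of A A)

/-- moving the unit to degree zero -/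
def unitShift (m : ℤ) : (unitAt A m)⟦m⟧ ≅ Dual.inD A A :=
  ((singleFunctors (ModuleCat.{u} A)).shiftIso m 0 m (add_zero m)).app (ModuleCat.of A A)

/-- `Hom(A[-m], K) = H^m K` -/
def evalAt (m : ℤ) (K : Dual.D A) : (unitAt A m ⟶ K) ≃ₗ[A] Dual.HD A K m :=
  LinearEquiv.ofBijective
    ((shiftFunctor (Dual.D A) m).mapLinearMap A)
    ⟨(shiftFunctor (Dual.D A) m).map_injective, (shiftFunctor (Dual.D A) m).map_surjective⟩
  ≪≫ₗ Linear.homCongr A (unitShift A m) (Iso.refl _) ≪≫ₗ DualCx.Cx.homUnitEquivShift K m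

theorem evalAt_comp (m : ℤ) {K L : Dual.D A} (s : unitAt A m ⟶ K) (g : K ⟶ L) :
    evalAt A m L (s ≫ g) = ((homologyFunctor (ModuleCat.{u} A) m).map g).hom (evalAt A m K s) := by
  let H := homologyFunctor (ModuleCat.{u} A) 0
  have key : ∀ (K : Dual.D A) (s : unitAt A m ⟶ K), evalAt A m K s =
      ((H.shiftIso m 0 m (add_zero m)).hom.app K).hom ((H.map (s⟦m⟧')).hom
        ((H.map (unitShift A m).inv).hom (DualCx.Cx.e₀ A))) := fun K s => by
    change ((H.shiftIso m 0 m (add_zero m)).hom.app K).hom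
      (DualCx.Cx.evalA (K⟦m⟧) (((unitShift A m).inv ≫ s⟦m⟧') ≫ 𝟙 _)) = _
    rw [Category.comp_id, DualCx.Cx.evalA_apply, Functor.map_comp]
    rfl
  rw [key, key, Functor.map_comp, H.map_comp]
  exact congrArg (fun t => t.hom ((H.map (s⟦m⟧')).hom ((H.map (unitShift A m).inv).hom (DualCx.Cx.e₀ A))))
    ((H.shiftIso m 0 m (add_zero m)).hom.naturality g)

/-- linear maps between the degree `m` hom groups lift uniquely -/
theorem exists_unique_postcomp (M N : Dual.D A) (m : ℤ) (hM : M.IsLE m) (hN : N.IsGE m)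
    (φ : (unitAt A m ⟶ M) →ₗ[A] (unitAt A m ⟶ N)) :
    ∃! g : M ⟶ N, ∀ s, φ s = s ≫ g := by
  let c : (homologyFunctor (ModuleCat.{u} A) m).obj M ⟶ (homologyFunctor (ModuleCat.{u} A) m).obj N :=
    ModuleCat.ofHom ((evalAt A m N).toLinearMap ∘ₗ φ ∘ₗ (evalAt A m M).symm.toLinearMap)
  have hb := map_homology_bijective M N m hM hN
  obtain ⟨g, hg⟩ := hb.2 c
  dsimp only at hg
  refine ⟨g, fun s => (evalAt A m N).injective ?_, fun g' hg' => hb.1 ?_⟩
  · rw [evalAt_comp, hg]
    simp [c]
  · refine (ModuleCat.hom_ext (LinearMap.ext fun x => ?_)).trans hg.symm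
    obtain ⟨s, rfl⟩ := (evalAt A m M).surjective x
    rw [← evalAt_comp, ← hg']
    simp [c]

end Module

end Groth.Agent.TopDual
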