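/-
Direct images of quasi-coherent modules to a local base, seen in `D(A)`.
-/
import Groth.Agent.TopDual.Lin
import Groth.Agent.TopDual.Equiv
import Groth.Agent.TopCohRep.Van
import Groth.Agent.FlatMisc.FibreDimScheme
import Groth.Agent.DualCx.AdjAmp
import Groth.Agent.DualCx.Normal
import Groth.Agent.DTrunc.WayOut
import Groth.Prelude.Def_DCoh2

set_option autoImplicit false

universe u

open CategoryTheory CategoryTheory.Limits AlgebraicGeometry DerivedCategory

attribute [local instance] HasDerivedCategory.standard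

noncomputable section

namespace Groth.Agent.TopDual

theorem isQCohD_single {X : Scheme.{u}} {G : X.Modules} (hG : Coh.IsQCoh G) (k : ℤ) :
    DCoh.IsQCohD ((singleFunctor X.Modules k).obj G) := fun i => by
  rcases lt_trichotomy i k with h' | h' | h'
  · exact DualCx.AdjAmp.isQCoh_of_isZero _ (isZero_of_isGE _ k i h')
  · subst h'
    exact DualCx.AdjAmp.isQCoh_of_iso _ _ (KFlat.TruncHom.ιH G i) hG
  · exact DualCx.AdjAmp.isQCoh_of_isZero _ (isZero_of_isLE _ k i h')

variable {A : Type u} [CommRing A]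

/-- over a local base the closed fibre of a proper morphism has the largest dimension -/
theorem fibre_bound [IsLocalRing A] {X : Scheme.{u}}
    (f : X ⟶ Spec (CommRingCat.of A)) [IsProper f] (c : WithBot ℕ∞)
    (h : topologicalKrullDim (f.fiber (IsLocalRing.closedPoint A)) ≤ c) (y : ↥(Spec (CommRingCat.of A))) :
    topologicalKrullDim (f.fiber y) ≤ c :=
  ((IsLocalRing.specializes_closedPoint y).mem_open
    (FlatMisc.FibreDimScheme.isOpen_topDim_fiber_le f c) h :)

theorem isGE_of_normalized [IsLocalRing A] [IsNoetherianRing A] {ω : Dual.D A}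
    (hω : Dual.IsDualizing A ω) (hn : Dual.IsNormalized A ω) (dA : ℕ) (hdA : ringKrullDim A = dA) :
    ω.IsGE (-(dA : ℤ)) := (isGE_iff ω _).2 fun i hi => by
  have := DualCx.Normal.subsingleton_E hω hn dA A
    ((Module.supportDim_self_eq_ringKrullDim (R := A)).le.trans hdA.le) i (Or.inl hi)
  have : Subsingleton (Dual.HD A ω i) :=
    (DualCx.Cx.homUnitEquivShift ω i).symm.injective.subsingleton
  exact ModuleCat.isZero_of_subsingleton _

instance additive_tilde : (tilde.functor (CommRingCat.of A)).Additive :=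
  (inferInstance : ∀ R : CommRingCat.{u}, (tilde.functor R).Additive) (CommRingCat.of A)

instance preservesFiniteColimits_tilde : PreservesFiniteColimits (tilde.functor (CommRingCat.of A)) :=
  (inferInstance : ∀ R : CommRingCat.{u}, PreservesFiniteColimits (tilde.functor R)) (CommRingCat.of A)

variable [PreservesFiniteLimits (tilde.functor (CommRingCat.of A))]

instance full_tildeD : (DCoh.tildeD (CommRingCat.of A)).Full :=
  (KFlat.TildeD.full_faithful (R := CommRingCat.of A)).1

instance faithful_tildeD : (DCoh.tildeD (CommRingCat.of A)).Faithful :=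
  (KFlat.TildeD.full_faithful (R := CommRingCat.of A)).2

variable (A) in
theorem linear_tildeD : (DCoh.tildeD (CommRingCat.of A)).Linear A := by
  haveI := linear_tilde A
  exact inferInstanceAs ((tilde.functor (CommRingCat.of A)).mapDerivedCategory.Linear A)

variable (A) in
/-- `A~ = O` in degree `i` -/
def unitTilde (i : ℤ) : (DCoh.tildeD (CommRingCat.of A)).obj (unitAt A i) ≅
    (singleFunctor (Spec (CommRingCat.of A)).Modules i).obj (Coh.structureModule _) :=
  ((tilde.functor (CommRingCat.of A)).mapDerivedCategorySingleFunctor i).app _ ≪≫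
    (singleFunctor (Spec (CommRingCat.of A)).Modules i).mapIso tildeSelf

variable {X : Scheme.{u}} [X.Over (Spec (CommRingCat.of A))]
  [IsProper (X ↘ Spec (CommRingCat.of A))] [LocallyOfFinitePresentation (X ↘ Spec (CommRingCat.of A))]
  [DCoh.HasRpush (X ↘ Spec (CommRingCat.of A))]

theorem exists_model
    (h : ∀ K : DCoh.D X, DCoh.IsQCohD K → DCoh.IsQCohD ((DCoh.Rpush (X ↘ Spec (CommRingCat.of A))).obj K))
    (d : ℕ) (hfib : ∀ y, topologicalKrullDim ((X ↘ Spec (CommRingCat.of A)).fiber y) ≤ d)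
    (k : ℤ) (G : X.Modules) (hG : Coh.IsQCoh G) :
    ∃ (M : Dual.D A) (_ : (DCoh.tildeD (CommRingCat.of A)).obj M ≅
      (DCoh.Rpush (X ↘ Spec (CommRingCat.of A))).obj ((singleFunctor X.Modules k).obj G)),
      M.IsLE (k + d) := by
  have hK := h _ (isQCohD_single hG k)
  obtain ⟨M, ⟨j⟩⟩ := KFlat.TildeD.exists_iso_of_isQCohD (R := CommRingCat.of A)
    ((DCoh.Rpush (X ↘ Spec (CommRingCat.of A))).obj ((singleFunctor X.Modules k).obj G)) hK
  refine ⟨M, j, (isLE_iff M _).2 fun i hi => ?_⟩
  obtain ⟨T, -⟩ := exists_topEquiv (A := A) (X := X) (i - k).toNat k i (by omega)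
  have : Subsingleton (Coh.HH X G (i - k).toNat) :=
    TopCohRep.subsingleton_HH d hfib G hG _ (by omega)
  have h2 : Subsingleton (_ ⟶ _) := (T G).symm.injective.subsingleton
  have : Subsingleton (unitAt A i ⟶ M) := ⟨fun a b => (DCoh.tildeD (CommRingCat.of A)).map_injective
    ((cancel_epi (unitTilde A i).inv).1 ((cancel_mono j.hom).1 (h2.elim _ _)))⟩
  have : Subsingleton (Dual.HD A M i) := (evalAt A i M).symm.injective.subsingleton
  exact ModuleCat.isZero_of_subsingleton _

theorem exists_model_equiv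
    (h : ∀ K : DCoh.D X, DCoh.IsQCohD K → DCoh.IsQCohD ((DCoh.Rpush (X ↘ Spec (CommRingCat.of A))).obj K))
    (d : ℕ) (hfib : ∀ y, topologicalKrullDim ((X ↘ Spec (CommRingCat.of A)).fiber y) ≤ d)
    (k m : ℤ) (hm : k + d = m)
    (T : ∀ F : X.Modules, Coh.HH X F d ≃ₗ[A]
        ((singleFunctor (Spec (CommRingCat.of A)).Modules m).obj (Coh.structureModule _) ⟶
          (DCoh.Rpush (X ↘ Spec (CommRingCat.of A))).obj ((singleFunctor X.Modules k).obj F)))
    (F : X.Modules) (hF : Coh.IsQCoh F) :
    ∃ (M : Dual.D A) (j : (DCoh.tildeD (CommRingCat.of A)).obj M ≅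
        (DCoh.Rpush (X ↘ Spec (CommRingCat.of A))).obj ((singleFunctor X.Modules k).obj F))
      (T' : Coh.HH X F d ≃ₗ[A] (unitAt A m ⟶ M)),
      M.IsLE m ∧ ∀ x, (DCoh.tildeD (CommRingCat.of A)).map (T' x) ≫ j.hom =
        (unitTilde A m).hom ≫ T F x := by
  obtain ⟨M, j, hM⟩ := exists_model h d hfib k F hF
  rw [hm] at hM
  have := linear_tildeD A
  let R := DCoh.tildeD (CommRingCat.of A)
  let r : (unitAt A m ⟶ M) ≃ₗ[A]
      ((singleFunctor (Spec (CommRingCat.of A)).Modules m).obj (Coh.structureModule _) ⟶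
        (DCoh.Rpush (X ↘ Spec (CommRingCat.of A))).obj ((singleFunctor X.Modules k).obj F)) :=
    LinearEquiv.ofBijective (R.mapLinearMap A) ⟨(faithful_tildeD (A := A)).map_injective, (full_tildeD (A := A)).map_surjective⟩ ≪≫ₗ
      Linear.homCongr A (unitTilde A m) j
  refine ⟨M, j, T F ≪≫ₗ r.symm, hM, fun x => ?_⟩
  obtain ⟨z, hz⟩ := r.surjective (T F x)
  rw [LinearEquiv.trans_apply, ← hz, r.symm_apply_apply]
  change _ = (unitTilde A m).hom ≫ ((unitTilde A m).inv ≫ R.map z) ≫ j.hom
  rw [Category.assoc, Iso.hom_inv_id_assoc]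

end Groth.Agent.TopDual
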