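/-
Maps into `a(W)` as maps into the dualizing complex; the lowest degree of `a(W)`.
-/
import Groth.Agent.TopDual.Direct
import Groth.Agent.S1767

set_option autoImplicit false

universe u

open CategoryTheory CategoryTheory.Limits AlgebraicGeometry DerivedCategory

attribute [local instance] HasDerivedCategory.standard

noncomputable section

namespace Groth.Agent.TopDual

variable {X S : Scheme.{u}} (f : X ⟶ S) [DCoh.HasRpush f]
  {h : ∀ K : DCoh.D X, DCoh.IsQCohD K → DCoh.IsQCohD ((DCoh.Rpush f).obj K)}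
  {a : DCoh.DQCoh S ⥤ DCoh.DQCoh X}
  (adj : (ObjectProperty.lift DCoh.IsQCohD (ObjectProperty.ι DCoh.IsQCohD ⋙ DCoh.Rpush f)
      (fun K => h K.obj K.property)) ⊣ a)
  {W : DCoh.DQCoh S} {T : DCoh.D S} (w : W.obj ≅ T)

/-- a map into `a(W)` read as a map into `W` -/
def toW (P : DCoh.DQCoh X) (v : P.obj ⟶ (a.obj W).obj) : (DCoh.Rpush f).obj P.obj ⟶ T :=
  ((adj.homEquiv P W).symm (ObjectProperty.homMk v)).hom ≫ w.hom

theorem toW_bijective (P : DCoh.DQCoh X) : Function.Bijective (toW f adj w P) := by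
  constructor
  · intro v v' hv
    exact congrArg InducedCategory.Hom.hom
      ((adj.homEquiv P W).symm.injective (ObjectProperty.hom_ext _ ((cancel_mono w.hom).1 hv)))
  · intro c
    refine ⟨(adj.homEquiv P W (ObjectProperty.homMk (c ≫ w.inv))).hom, ?_⟩
    change ((adj.homEquiv P W).symm (adj.homEquiv P W (ObjectProperty.homMk (c ≫ w.inv)))).hom ≫ w.hom = c
    rw [Equiv.symm_apply_apply]
    change (c ≫ w.inv) ≫ w.hom = c
    simp

theorem toW_comp (P P' : DCoh.DQCoh X) (u : P.obj ⟶ P'.obj) (v : P'.obj ⟶ (a.obj W).obj) :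
    toW f adj w P (u ≫ v) = (DCoh.Rpush f).map u ≫ toW f adj w P' v := by
  have := adj.homEquiv_naturality_left_symm (ObjectProperty.homMk u : P ⟶ P')
    (ObjectProperty.homMk v : P' ⟶ a.obj W)
  exact (congrArg (fun t => InducedCategory.Hom.hom t ≫ w.hom) this).trans (Category.assoc _ _ _)

variable {A : Type u} [CommRing A] [PreservesFiniteLimits (tilde.functor (CommRingCat.of A))]

theorem isGE_adjoint_of_models {X : Scheme.{u}} [X.Over (Spec (CommRingCat.of A))]
    [IsProper (X ↘ Spec (CommRingCat.of A))] [LocallyOfFinitePresentation (X ↘ Spec (CommRingCat.of A))]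
    [DCoh.HasRpush (X ↘ Spec (CommRingCat.of A))]
    (h : ∀ K : DCoh.D X, DCoh.IsQCohD K → DCoh.IsQCohD ((DCoh.Rpush (X ↘ Spec (CommRingCat.of A))).obj K))
    (a : DCoh.DQCoh (Spec (CommRingCat.of A)) ⥤ DCoh.DQCoh X)
    (adj : (ObjectProperty.lift DCoh.IsQCohD
      (ObjectProperty.ι DCoh.IsQCohD ⋙ DCoh.Rpush (X ↘ Spec (CommRingCat.of A)))
      (fun K => h K.obj K.property)) ⊣ a)
    (d : ℕ) (hfib : ∀ y, topologicalKrullDim ((X ↘ Spec (CommRingCat.of A)).fiber y) ≤ d)
    (ω : Dual.D A) (m : ℤ) (hωge : ω.IsGE m) (W : DCoh.DQCoh (Spec (CommRingCat.of A)))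
    (w : W.obj ≅ (DCoh.tildeD (CommRingCat.of A)).obj ω) :
    (a.obj W).obj.IsGE (m - d) := by
  let f := X ↘ Spec (CommRingCat.of A)
  have : CompactSpace X := QuasiCompact.compactSpace_of_compactSpace f
  have : QuasiSeparatedSpace X := quasiSeparatedSpace_of_quasiSeparated f
  obtain ⟨N, hN⟩ := S1767.result X _ f h a adj
  have hT : ((DCoh.tildeD (CommRingCat.of A)).obj ω).IsGE m :=
    DTrunc.isGE_mapDerivedCategory (tilde.functor (CommRingCat.of A)) ω m
  have hW0 : ∀ i : ℤ, i ≤ m - 1 → IsZero (DCoh.HD W.obj i) := fun i hi =>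
    (isZero_of_isGE ((DCoh.tildeD (CommRingCat.of A)).obj ω) m i (by omega)).of_iso
      ((homologyFunctor _ i).mapIso w)
  refine (isGE_iff _ _).2 fun i hi => ?_
  suffices ∀ (n : ℕ) (i : ℤ), i ≤ m - 1 - N + n → i < m - d → IsZero (DCoh.HD (a.obj W).obj i) from
    this (i - (m - 1 - N)).toNat i (by omega) hi
  intro n
  induction n with
  | zero => exact fun i hi _ => hN W (m - 1) hW0 i (by omega)
  | succ n ih =>
    intro i hi hiX
    have hge : (a.obj W).obj.IsGE i := (isGE_iff _ i).2 fun j hj => ih j (by omega) (by omega)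
    have hH : Coh.IsQCoh (DCoh.HD (a.obj W).obj i) := (a.obj W).property i
    obtain ⟨v, hv⟩ := (KFlat.TruncHom.Φ_bijective_of_isGE_self
      (DCoh.HD (a.obj W).obj i) i (a.obj W).obj hge).2 (𝟙 _)
    obtain ⟨M, j, hM⟩ := exists_model h d hfib i _ hH
    let P : DCoh.DQCoh X := ⟨_, isQCohD_single hH i⟩
    have h1 : ∀ v, toW f adj w P v = 0 := fun v => by
      obtain ⟨g, hg⟩ := (full_tildeD (A := A)).map_surjective (j.hom ≫ toW f adj w P v)
      have : g = 0 := TStructure.t.zero g (i + d) m (by omega)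
      rw [this, Functor.map_zero] at hg
      rw [← cancel_epi j.hom, comp_zero]
      exact hg.symm
    rw [(toW_bijective f adj w P).1 ((h1 v).trans (h1 0).symm), map_zero] at hv
    exact (IsZero.iff_id_eq_zero _).2 hv.symm

end Groth.Agent.TopDual
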